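import Groth.Agent.LciCurve.Lift
import Groth.Agent.LCIDef.Main
import Groth.Agent.DefFun.AutLift
import Groth.Agent.S9287
import Mathlib

/-!
# Lifts of the affine pieces of a deformation of a local complete intersection
-/

set_option autoImplicit false
set_option linter.style.haveILetI false
set_option linter.unusedSectionVars false
set_option backward.isDefEq.respectTransparency false
set_option backward.isDefEq.respectTransparency.types false
set_option maxHeartbeats 800000
universe u

open CategoryTheory CategoryTheory.Limits AlgebraicGeometry TopologicalSpace ArtFun ArtFun.Art IsLocalRing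

noncomputable section

namespace Groth.Agent.LciCurve

variable {k : Type u} [Field k] {X : Scheme.{u}} {x : X ⟶ specPt k}

/-- The affine pieces of a syntomic scheme over a field are local complete intersections. -/
theorem isLCI_str (hlci : ∀ p : X, Synt.IsSyntomicAt x p) {U : X.Opens} (hU : IsAffineOpen U) :
    letI := (DefLift.str x U).toAlgebra; LCI.IsLCI k Γ(X, U) := by
  have h1 : SyntLib.SynMor x := (SyntLib.isSyntomicMor_iff x).1 hlci
  have h2 : SyntLib.Syn (x.appLE ⊤ U le_top).hom :=
    HasRingHomProperty.appLE (P := SyntLib.SynMor.{u}) x h1 ⟨⊤, isAffineOpen_top _⟩ ⟨U, hU⟩ le_top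
  have h3 : SyntLib.Syn (DefLift.str x U) :=
    SyntLib.syn_isLocal.respectsIso.2 (x.appLE ⊤ U le_top).hom
      (Scheme.ΓSpecIso (CommRingCat.of k)).symm.commRingCatIsoToRingEquiv h2
  letI := (DefLift.str x U).toAlgebra
  exact ((S9287.result k Γ(X, U)).1 h3).2

variable {A B : Art k k} (ξ : DefSch X x A) (μ : B ⟶ A)

/-- A deformation of a local complete intersection lifts on every affine piece. -/
theorem exists_lift_affine (hμ : Function.Surjective μ) (hlci : ∀ p : X, Synt.IsSyntomicAt x p) {U : X.Opens}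
    (hU : IsAffineOpen U) : Nonempty (Lift μ.toAlgHom.toRingHom ξ.f (DefLift.opn ξ U)) := by
  letI := (DefLift.str x U).toAlgebra
  let O := DefLift.opn ξ U
  have hO : IsAffineOpen O := DefLift.isAffineOpen_opn ξ hU
  let φ := DefLift.str ξ.f O
  have hw : (DefLift.toX ξ U).comp φ = (algebraMap k Γ(X, U)).comp A.res.toRingHom :=
    RingHom.ext fun a => DefLift.toX_str ξ U a
  obtain ⟨T', _, φ', χ, hflat', hχ, hχφ, hkχ⟩ :=
    LCIDef.exists_lift_algebra μ.toAlgHom.toRingHom hμ A.res.toRingHom A.res_surjective φ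
      (DefLift.str_flat ξ hU) (DefLift.toX ξ U) (DefLift.toX_surjective ξ hU) (DefLift.ker_toX ξ hU) hw
      (isLCI_str hlci hU)
  have hs : O.ι ≫ ξ.f = hO.isoSpec.hom ≫ Spec.map (CommRingCat.ofHom φ) := by
    rw [show CommRingCat.ofHom φ = (Scheme.ΓSpecIso (CommRingCat.of A)).inv ≫ ξ.f.appLE ⊤ O le_top from rfl,
      Spec.map_comp, IsAffineOpen.isoSpec_hom, ← hO.toSpecΓ_fromSpec, Category.assoc]
    congr 1
    rw [← (isAffineOpen_top (Spec (CommRingCat.of A))).SpecMap_appLE_fromSpec ξ.f hO le_top]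
    simp [IsAffineOpen.fromSpec_top, Scheme.isoSpec_Spec_inv]
  have h : IsPullback (Spec.map (CommRingCat.ofHom χ)) (Spec.map (CommRingCat.ofHom φ))
      (Spec.map (CommRingCat.ofHom φ')) (Spec.map (CommRingCat.ofHom μ.toAlgHom.toRingHom)) :=
    isPullback_SpecMap_of_isPushout _ _ _ _ (LCIDef.isPushout_of_ker _ _ _ _ hμ hχ hkχ hχφ)
  refine ⟨⟨Spec (CommRingCat.of T'), Spec.map (CommRingCat.ofHom φ'),
    (HasRingHomProperty.Spec_iff (P := @Flat)).2 hflat', hO.isoSpec.hom ≫ Spec.map (CommRingCat.ofHom χ), ?_⟩⟩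
  exact h.of_iso hO.isoSpec.symm (Iso.refl _) (Iso.refl _) (Iso.refl _) (by simp) (by rw [Iso.symm_hom, Iso.refl_hom, Category.comp_id, Iso.eq_inv_comp]; exact hs.symm) (by simp) (by simp)

/-- A lift of the whole total space is a deformation over the larger base. -/
theorem exists_map_eq (L : Lift μ.toAlgHom.toRingHom ξ.f (⊤ : ξ.total.Opens)) :
    ∃ ξ' : DefSch X x B, (defFunctor X x).map μ ξ'.cl = ξ.cl := by
  let e := ξ.total.topIso
  have h : IsPullback (e.inv ≫ L.j) ξ.f L.f (specMap μ) :=
    L.isPullback.of_iso e (Iso.refl _) (Iso.refl _) (Iso.refl _) (by simp) (by simp [e]) (by simp)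
      (by simp; rfl)
  let ξ' : DefSch X x B :=
    { total := L.T
      f := L.f
      flat := L.flat
      i := ξ.i ≫ e.inv ≫ L.j
      isPullback := specRes_comp μ ▸ ξ.isPullback.paste_horiz h }
  exact ⟨ξ', DefFun.Cart.cl_eq (g := μ) (η := ξ) (ξ := ξ') ⟨e.inv ≫ L.j, h, rfl⟩⟩

end Groth.Agent.LciCurve
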