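import Groth.Agent.SepAffine.Generic
import Groth.Agent.SepAffine.Top
import Groth.Agent.AmpleDimOne.Top
import Mathlib

/-!
# Covers of schemes of dimension at most one whose overlaps lie in a dense affine open
-/

set_option autoImplicit false
set_option linter.style.haveILetI false
set_option backward.isDefEq.respectTransparency false
universe u

open CategoryTheory CategoryTheory.Limits AlgebraicGeometry TopologicalSpace

noncomputable section

namespace Groth.Agent.LciCurve

/-- A dense open of a Noetherian scheme of dimension at most one contains an affine open with finite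
complement, whose points have affine neighbourhoods meeting it in affine opens. -/
theorem exists_cover {X : Scheme.{u}} [IsNoetherian X] (hdim : topologicalKrullDim X ≤ 1) (U : X.Opens)
    (hU : Dense (U : Set X)) :
    ∃ (U₀ : X.Opens) (n : ℕ) (W : Fin n → X.Opens), IsAffineOpen U₀ ∧ U₀ ≤ U ∧ (∀ i, IsAffineOpen (W i)) ∧
      (∀ i, IsAffineOpen (W i ⊓ U₀)) ∧ (∀ i j, i ≠ j → W i ⊓ W j ≤ U₀) ∧ U₀ ⊔ ⨆ i, W i = ⊤ := by
  classical
  have hfin := NoetherianSpace.finite_irreducibleComponents (α := X)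
  haveI : Fintype (irreducibleComponents X) := hfin.fintype
  have hη : ∀ C : irreducibleComponents X, ∃ η, IsGenericPoint η C.1 := fun C =>
    QuasiSober.sober C.2.1 (isClosed_of_mem_irreducibleComponents _ C.2)
  choose η hη using hη
  let e := Fintype.equivFin (irreducibleComponents X)
  have hmax : ∀ i, SepAffine.IsMaxPoint (η (e.symm i)) := fun i =>
    SepAffine.isMaxPoint_of_mem_irreducibleComponents (by rw [(hη _).def]; exact (e.symm i).2)
  have hinj : Function.Injective fun i => η (e.symm i) := fun i j h => e.symm.injective <|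
    Subtype.ext (by rw [← (hη (e.symm i)).def, ← (hη (e.symm j)).def]; exact congrArg (fun p => closure {p}) h)
  have hηU : ∀ i, η (e.symm i) ∈ U := fun i => by
    haveI : CompactSpace U.toScheme := isCompact_iff_compactSpace.1 (NoetherianSpace.isCompact _)
    haveI : QuasiCompact U.ι := quasiCompact_of_compactSpace _
    obtain ⟨z, -, hz⟩ := SubDescent.exists_specializes_of_mem_closure_image U.ι isClosed_univ
      (y := η (e.symm i)) (by rw [Set.image_univ, Scheme.Opens.range_ι, hU.closure_eq]; trivial)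
    exact hmax i _ hz ▸ z.2
  obtain ⟨V, hV, -, hV₀⟩ := SepAffine.exists_disjoint_affine_aux _ (fun i => η (e.symm i)) hmax hinj U hηU
  let U₀ : X.Opens := ⨆ i, V i
  have hU₀U : U₀ ≤ U := iSup_le fun i => (hV i).2.2
  have hmaxU : ∀ y : X, SepAffine.IsMaxPoint y → y ∈ U₀ := fun y hy => by
    let C : irreducibleComponents X := ⟨irreducibleComponent y, irreducibleComponent_mem_irreducibleComponents y⟩
    have h1 : η C ⤳ y := (hη C).specializes mem_irreducibleComponent
    rw [← hy _ h1]
    refine Opens.mem_iSup.2 ⟨e C, ?_⟩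
    have h2 := (hV (e C)).2.1
    simpa using h2
  have hgen : ∀ {y : X}, y ∉ U₀ → ∀ b, b ⤳ y → b ≠ y → b ∈ U₀ := fun {y} hy b hb hne =>
    hmaxU b fun c hc => by
      rcases AmpleDimOne.eq_or_eq_of_specializes hdim hc hb with h | h
      · exact h
      · exact absurd h hne
  let Z : Set X := (U₀ : Set X)ᶜ
  have hZ : Z.Finite := by
    have hcl : IsClosed Z := U₀.2.isClosed_compl
    obtain ⟨S, hSfin, hSc, hSirr, hSeq⟩ := NoetherianSpace.exists_finite_set_isClosed_irreducible hcl
    have hg : ∀ t : S, ∃ g, IsGenericPoint g (t : Set X) := fun t => QuasiSober.sober (hSirr t.1 t.2) (hSc t.1 t.2)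
    choose g hg using hg
    haveI := hSfin.to_subtype
    refine (Set.finite_range g).subset fun y hy => ?_
    obtain ⟨t, ht, hyt⟩ : ∃ t ∈ S, y ∈ t := by
      have : y ∈ ⋃₀ S := hSeq ▸ hy
      simpa using this
    refine ⟨⟨t, ht⟩, ?_⟩
    by_contra hne
    have h1 : g ⟨t, ht⟩ ∈ Z := by
      show g ⟨t, ht⟩ ∈ Z
      rw [show Z = ⋃₀ S from hSeq]
      exact ⟨t, ht, (hg ⟨t, ht⟩).mem⟩
    exact h1 (hgen hy _ ((hg ⟨t, ht⟩).specializes hyt) hne)
  haveI := hZ.fintype
  let eZ := Fintype.equivFin Z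
  have hW : ∀ y : Z, ∃ W : X.Opens, IsAffineOpen W ∧ y.1 ∈ W ∧ (∀ w ∈ W, w ∉ U₀ → w = y.1) ∧
      IsAffineOpen (W ⊓ U₀) := fun y => by
    let O : X.Opens := ⟨(Z \ {y.1})ᶜ, by
      refine (closure_subset_iff_isClosed.1 fun w hw => ?_).isOpen_compl
      rw [← Set.biUnion_of_singleton (Z \ {y.1}), Set.Finite.closure_biUnion (hZ.subset Set.sdiff_subset)] at hw
      obtain ⟨z, hz, hzw⟩ := Set.mem_iUnion₂.1 hw
      have hzw' : z ⤳ w := specializes_iff_mem_closure.2 hzw
      have hwU : w ∉ U₀ := fun h => hz.1 (hzw'.mem_open U₀.2 h)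
      by_cases h : z = w
      · exact h ▸ hz
      · exact absurd (hgen hwU z hzw' h) hz.1⟩
    obtain ⟨W, f, hWa, hyW, hWO, -, hWf⟩ := SepAffine.exists_principal_nbhd U₀
      (AmpleDimOne.ringKrullDim_stalk_le hdim y.1) y.2 (fun h => y.2 (hmaxU _ h)) (hgen y.2) O
      (fun h => h.2 rfl)
    refine ⟨W, hWa, hyW, fun w hw hwU => ?_, by rw [hWf]; exact hWa.basicOpen f⟩
    by_contra hne
    exact hWO hw ⟨hwU, hne⟩
  choose W hW₁ hW₂ hW₃ hW₄ using hW
  refine ⟨U₀, _, fun i => W (eZ.symm i), hV₀, hU₀U, fun i => hW₁ _, fun i => hW₄ _, fun i j hij w hw => ?_, ?_⟩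
  · by_contra hwU
    exact hij (eZ.symm.injective (Subtype.ext ((hW₃ _ w hw.1 hwU).symm.trans (hW₃ _ w hw.2 hwU))))
  · refine eq_top_iff.2 fun w _ => ?_
    by_cases hw : w ∈ U₀
    · exact Or.inl hw
    · refine Or.inr (Opens.mem_iSup.2 ⟨eZ ⟨w, hw⟩, ?_⟩)
      simpa using hW₂ ⟨w, hw⟩

end Groth.Agent.LciCurve
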