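import Groth.Agent.DefLift.Pieces
import Groth.Agent.DefLift.SmallExt
import Groth.Agent.ThickProp.Deform
import Groth.Agent.MTBridge.NilHom
import Groth.Agent.RZUnion.Two
import Mathlib

/-!
# Flat lifts of the opens of a scheme along a nilpotent thickening of an affine base

Two lifts of opens whose intersection is affine and smooth over the base glue to a lift of the union.
-/

set_option autoImplicit false
set_option linter.style.haveILetI false
set_option linter.unusedSectionVars false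
set_option backward.isDefEq.respectTransparency false
set_option backward.isDefEq.respectTransparency.types false
universe u

open CategoryTheory CategoryTheory.Limits AlgebraicGeometry TopologicalSpace

noncomputable section

namespace Groth.Agent.LciCurve

variable {B A : Type u} [CommRing B] [CommRing A] (π : B →+* A)
variable {Y : Scheme.{u}} (g : Y ⟶ Spec (CommRingCat.of A))

/-- A flat scheme over the thickened base restricting to an open of `Y`. -/
structure Lift (O : Y.Opens) : Type (u + 1) where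
  /-- the lift -/
  T : Scheme.{u}
  /-- its structure map -/
  f : T ⟶ Spec (CommRingCat.of B)
  flat : Flat f
  /-- the inclusion of the open -/
  j : O.toScheme ⟶ T
  isPullback : IsPullback j (O.ι ≫ g) f (Spec.map (CommRingCat.ofHom π))

variable {π} {g} (hπ : Function.Surjective π) (hn : IsNilpotent (RingHom.ker π))

include hπ in
theorem isClosedImmersion_spec : IsClosedImmersion (Spec.map (CommRingCat.ofHom π)) :=
  IsClosedImmersion.spec_of_surjective _ hπ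

include hπ hn in
theorem surjective_spec : Surjective (Spec.map (CommRingCat.ofHom π)) :=
  ⟨DefLift.surjective_specMap_nilpotent π hπ hn⟩

include hπ hn in
theorem isNilpotent_spec : IsNilpotent (Spec.map (CommRingCat.ofHom π)).ker :=
  DefLift.isNilpotent_ker_specMap _ hπ hn

variable {O : Y.Opens} (L : Lift π g O)

include hπ in
theorem Lift.isClosedImmersion : IsClosedImmersion L.j :=
  haveI := isClosedImmersion_spec hπ
  MorphismProperty.of_isPullback L.isPullback.flip inferInstance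

include hπ hn in
theorem Lift.surjective : Surjective L.j :=
  haveI := surjective_spec hπ hn
  MorphismProperty.of_isPullback L.isPullback.flip inferInstance

include hπ hn in
/-- The lift restricts to every smaller open. -/
theorem Lift.exists_piece {W : Y.Opens} (hW : W ≤ O) :
    ∃ (V : L.T.Opens) (jW : W.toScheme ⟶ V.toScheme), jW ≫ V.ι = Y.homOfLE hW ≫ L.j ∧
      L.j ⁻¹ᵁ V = O.ι ⁻¹ᵁ W ∧
      IsPullback jW (W.ι ≫ g) (V.ι ≫ L.f) (Spec.map (CommRingCat.ofHom π)) := by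
  haveI := L.isClosedImmersion hπ
  haveI := L.surjective hπ hn
  obtain ⟨S, hS, hSW⟩ := L.j.isEmbedding.isInducing.isOpen_iff.1 (O.ι ⁻¹ᵁ W).2
  let V : L.T.Opens := ⟨S, hS⟩
  have hV : L.j ⁻¹ᵁ V = O.ι ⁻¹ᵁ W := Opens.ext hSW
  have hle : Set.range (Y.homOfLE hW ≫ L.j) ⊆ Set.range V.ι := by
    rw [Scheme.Opens.range_ι]
    rintro _ ⟨w, rfl⟩
    rw [Scheme.Hom.comp_apply]
    have h1 : Y.homOfLE hW w ∈ L.j ⁻¹ᵁ V := by
      rw [hV]
      show O.ι (Y.homOfLE hW w) ∈ W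
      rw [← Scheme.Hom.comp_apply, Scheme.homOfLE_ι]
      exact w.2
    exact h1
  let jW : W.toScheme ⟶ V.toScheme := IsOpenImmersion.lift V.ι (Y.homOfLE hW ≫ L.j) hle
  have hfac : jW ≫ V.ι = Y.homOfLE hW ≫ L.j := IsOpenImmersion.lift_fac _ _ _
  refine ⟨V, jW, hfac, hV, ?_⟩
  have hpre : IsPullback jW (Y.homOfLE hW) V.ι L.j := by
    refine (IsOpenImmersion.isPullback jW (Y.homOfLE hW) V.ι L.j hfac.symm ?_)
    rw [Scheme.Opens.opensRange_ι, hV, Scheme.opensRange_homOfLE]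
  have h := hpre.paste_vert L.isPullback
  rwa [← Category.assoc, Scheme.homOfLE_ι] at h

section Smooth

variable {W : Y.Opens} (hWaff : IsAffineOpen W) [Smooth (W.ι ≫ g)]
variable {V₁ V₂ : Scheme.{u}} {f₁ : V₁ ⟶ Spec (CommRingCat.of B)} {f₂ : V₂ ⟶ Spec (CommRingCat.of B)} [Flat f₁]
  [Flat f₂] {j₁ : W.toScheme ⟶ V₁} {j₂ : W.toScheme ⟶ V₂}
  (h₁ : IsPullback j₁ (W.ι ≫ g) f₁ (Spec.map (CommRingCat.ofHom π)))
  (h₂ : IsPullback j₂ (W.ι ≫ g) f₂ (Spec.map (CommRingCat.ofHom π)))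

include hπ hn hWaff h₁ h₂ in
/-- Lifts of an affine smooth open are isomorphic. -/
theorem exists_iso_of_smooth : ∃ θ : V₁ ⟶ V₂, IsIso θ ∧ j₁ ≫ θ = j₂ ∧ θ ≫ f₂ = f₁ := by
  haveI := isClosedImmersion_spec hπ
  haveI := surjective_spec hπ hn
  have hnS := isNilpotent_spec hπ hn
  haveI : IsAffine W.toScheme := hWaff
  haveI : IsClosedImmersion j₁ := MorphismProperty.of_isPullback h₁.flip inferInstance
  haveI : Surjective j₁ := MorphismProperty.of_isPullback h₁.flip inferInstance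
  haveI : IsAffine V₁ := NilAffine.isAffine_of_surjective j₁
  haveI : Smooth f₂ := by
    haveI : Flat (f₂ ≫ 𝟙 _) := by rwa [Category.comp_id]
    exact ThickProp.smooth_of_deform (iX := j₂) (iY := Spec.map (CommRingCat.ofHom π))
      (iS := Spec.map (CommRingCat.ofHom π)) (f := W.ι ≫ g) (f' := f₂) (g := 𝟙 _) (g' := 𝟙 _)
      (by rw [Category.comp_id, Category.comp_id]; exact h₂) (IsPullback.id_vert _) h₂.w hnS
  have hsurj : Function.Surjective j₁.appTop :=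
    (IsClosedImmersion.isAffine_surjective_of_isAffine j₁).2
  obtain ⟨n, hn'⟩ : IsNilpotent (RingHom.ker j₁.appTop.hom) := by
    have hk := (DefLift.ker_app_of_pullback π hπ f₁ j₁ (W.ι ≫ g) h₁ (isAffineOpen_top V₁)
      (W := ⊤) rfl).1
    have happ : j₁.appLE ⊤ ⊤ le_rfl = j₁.appTop := (Scheme.Hom.app_eq_appLE _).symm
    rw [happ] at hk
    obtain ⟨m, hm⟩ := hn
    exact ⟨m, by rw [hk, ← Ideal.map_pow, hm]; exact Ideal.map_bot⟩
  have hnat : Spec.map (CommRingCat.ofHom j₁.appTop.hom) ≫ V₁.isoSpec.inv = W.toScheme.isoSpec.inv ≫ j₁ :=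
    (Scheme.isoSpec_inv_naturality j₁)
  obtain ⟨φ, hφ1, hφ2⟩ := MTBridge.exists_lift_of_smooth_nil f₂ n j₁.appTop.hom hsurj hn'
    (W.toScheme.isoSpec.inv ≫ j₂) (V₁.isoSpec.inv ≫ f₁) (by
      rw [← Category.assoc, hnat, Category.assoc, Category.assoc, h₁.w, h₂.w])
  let θ := V₁.isoSpec.hom ≫ φ
  have hθf : θ ≫ f₂ = f₁ := by simp [θ, hφ2]
  have hθj : j₁ ≫ θ = j₂ := by
    have h : j₁ ≫ V₁.isoSpec.hom = W.toScheme.isoSpec.hom ≫ Spec.map (CommRingCat.ofHom j₁.appTop.hom) := by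
      rw [← cancel_mono V₁.isoSpec.inv, Category.assoc, Category.assoc, Iso.hom_inv_id, Category.comp_id, hnat,
        Iso.hom_inv_id_assoc]
    simp only [θ]
    rw [reassoc_of% h, hφ1, Iso.hom_inv_id_assoc]
  haveI : Flat (θ ≫ f₂) := by rwa [hθf]
  refine ⟨θ, ?_, hθj, hθf⟩
  exact ThickProp.isIso_of_deform (iX := j₁) (iY := j₂) (f := 𝟙 W.toScheme) (f' := θ) (g := W.ι ≫ g) (g' := f₂)
    (by rw [Category.id_comp, hθf]; exact h₁) h₂ (by rw [Category.id_comp]; exact hθj) hnS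

end Smooth

include hπ hn in
/-- Two lifts glue when the intersection is affine and smooth over the base. -/
theorem exists_lift_sup {O₁ O₂ : Y.Opens} (L₁ : Lift π g O₁) (L₂ : Lift π g O₂)
    (hW : IsAffineOpen (O₁ ⊓ O₂)) [Smooth ((O₁ ⊓ O₂).ι ≫ g)] : Nonempty (Lift π g (O₁ ⊔ O₂)) := by
  let W := O₁ ⊓ O₂
  let U := O₁ ⊔ O₂
  haveI := L₁.isClosedImmersion hπ
  haveI := L₁.surjective hπ hn
  haveI := L₂.isClosedImmersion hπ
  haveI := L₂.surjective hπ hn
  haveI := L₁.flat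
  haveI := L₂.flat
  obtain ⟨V₁, a₁, ha₁, hV₁, h₁⟩ := L₁.exists_piece hπ hn (inf_le_left : W ≤ O₁)
  obtain ⟨V₂, a₂, ha₂, hV₂, h₂⟩ := L₂.exists_piece hπ hn (inf_le_right : W ≤ O₂)
  obtain ⟨θ, hθ, hθa, hθf⟩ := exists_iso_of_smooth hπ hn hW h₁ h₂
  let b : V₁.toScheme ⟶ L₂.T := θ ≫ V₂.ι
  haveI : IsOpenImmersion b := inferInstanceAs (IsOpenImmersion (θ ≫ V₂.ι))
  let P := pushout V₁.ι b
  let i₁ : L₁.T ⟶ P := pushout.inl _ _
  let i₂ : L₂.T ⟶ P := pushout.inr _ _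
  haveI : IsOpenImmersion i₁ := inferInstanceAs (IsOpenImmersion (colimit.ι (span V₁.ι b) WalkingSpan.left))
  haveI : IsOpenImmersion i₂ := inferInstanceAs (IsOpenImmersion (colimit.ι (span V₁.ι b) WalkingSpan.right))
  have hcond : V₁.ι ≫ i₁ = b ≫ i₂ := pushout.condition
  let F : P ⟶ Spec (CommRingCat.of B) := pushout.desc L₁.f L₂.f (by
    rw [Category.assoc, hθf])
  have hF₁ : i₁ ≫ F = L₁.f := pushout.inl_desc _ _ _
  have hF₂ : i₂ ≫ F = L₂.f := pushout.inr_desc _ _ _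
  -- points common to the two lifts come from the overlap
  have hmeet : ∀ (y₁ : L₁.T) (y₂ : L₂.T), i₁ y₁ = i₂ y₂ →
      ∃ w : W.toScheme, L₁.j (Y.homOfLE inf_le_left w) = y₁ ∧ L₂.j (Y.homOfLE inf_le_right w) = y₂ := by
    intro y₁ y₂ h
    obtain ⟨k, fi, fj, z, hz₁, hz₂⟩ := (Scheme.IsLocallyDirected.ι_eq_ι_iff (span V₁.ι b)
      (i := WalkingSpan.left) (j := WalkingSpan.right)).1 h
    obtain (_ | (_ | _)) := k
    · rcases fi with _ | _
      rcases fj with _ | _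
      haveI : Surjective a₁ :=
        haveI := surjective_spec hπ hn
        MorphismProperty.of_isPullback h₁.flip inferInstance
      obtain ⟨w, rfl⟩ := a₁.surjective z
      refine ⟨w, ?_, ?_⟩
      · rw [← Scheme.Hom.comp_apply, ← ha₁, Scheme.Hom.comp_apply]; exact hz₁
      · rw [← Scheme.Hom.comp_apply, ← ha₂, ← hθa, Category.assoc, Scheme.Hom.comp_apply]; exact hz₂
    · exact nomatch fj
    · exact nomatch fi
  -- the reduction
  let W₁ : U.toScheme.Opens := U.ι ⁻¹ᵁ O₁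
  let W₂ : U.toScheme.Opens := U.ι ⁻¹ᵁ O₂
  have hcov : ∀ z : U.toScheme, z ∈ W₁ ∨ z ∈ W₂ := fun z => z.2
  let r₁ : W₁.toScheme ⟶ O₁.toScheme := U.ι ∣_ O₁
  let r₂ : W₂.toScheme ⟶ O₂.toScheme := U.ι ∣_ O₂
  have hr₁ : r₁ ≫ O₁.ι = W₁.ι ≫ U.ι := morphismRestrict_ι _ _
  have hr₂ : r₂ ≫ O₂.ι = W₂.ι ≫ U.ι := morphismRestrict_ι _ _
  obtain ⟨J, hJ₁, hJ₂⟩ := RZUnion.exists_glue_two W₁ W₂ hcov (r₁ ≫ L₁.j ≫ i₁) (r₂ ≫ L₂.j ≫ i₂)
    fun {Z} z₁ z₂ hz => by
      have e : (z₁ ≫ r₁) ≫ O₁.ι = (z₂ ≫ r₂) ≫ O₂.ι := by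
        rw [Category.assoc, Category.assoc, hr₁, hr₂, reassoc_of% hz]
      have hle : Set.range ((z₁ ≫ r₁) ≫ O₁.ι) ⊆ Set.range W.ι := by
        rw [Scheme.Opens.range_ι]
        rintro _ ⟨z, rfl⟩
        refine ⟨?_, ?_⟩
        · rw [Scheme.Hom.comp_apply]; exact ((z₁ ≫ r₁) z).2
        · rw [e, Scheme.Hom.comp_apply]; exact ((z₂ ≫ r₂) z).2
      let l : Z ⟶ W.toScheme := IsOpenImmersion.lift W.ι _ hle
      have hl : l ≫ W.ι = (z₁ ≫ r₁) ≫ O₁.ι := IsOpenImmersion.lift_fac _ _ _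
      have e₁ : z₁ ≫ r₁ = l ≫ Y.homOfLE inf_le_left := by
        rw [← cancel_mono O₁.ι, ← hl, Category.assoc, Scheme.homOfLE_ι]
      have e₂ : z₂ ≫ r₂ = l ≫ Y.homOfLE inf_le_right := by
        rw [← cancel_mono O₂.ι, ← e, ← hl, Category.assoc, Scheme.homOfLE_ι]
      rw [reassoc_of% e₁, reassoc_of% e₂, reassoc_of% ha₁.symm, reassoc_of% ha₂.symm, hcond, ← hθa]
      simp [b]
  -- the two squares over the charts
  have hsq₁ : W₁.ι ≫ J = (r₁ ≫ L₁.j) ≫ i₁ := by rw [Category.assoc]; exact hJ₁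
  have hsq₂ : W₂.ι ≫ J = (r₂ ≫ L₂.j) ≫ i₂ := by rw [Category.assoc]; exact hJ₂
  have hpre₁ : i₁.opensRange.carrier.preimage J = (W₁ : Set U.toScheme) := by
    ext z
    refine ⟨?_, fun hz => ⟨(r₁ ≫ L₁.j) ⟨z, hz⟩, ?_⟩⟩
    · rintro ⟨y, hy⟩
      rcases hcov z with hz | hz
      · exact hz
      · have h2 : J z = i₂ ((r₂ ≫ L₂.j) ⟨z, hz⟩) := by
          rw [← Scheme.Hom.comp_apply, ← hsq₂, Scheme.Hom.comp_apply]; rfl
        obtain ⟨w, -, hw⟩ := hmeet _ _ (hy.trans h2)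
        rw [Scheme.Hom.comp_apply] at hw
        have h3 := congrArg O₂.ι (L₂.j.isEmbedding.injective hw)
        rw [← Scheme.Hom.comp_apply, Scheme.homOfLE_ι, ← Scheme.Hom.comp_apply, hr₂, Scheme.Hom.comp_apply] at h3
        show U.ι z ∈ O₁
        have h4 : U.ι z = W.ι w := h3.symm
        rw [h4]
        exact w.2.1
    · rw [← Scheme.Hom.comp_apply, ← hsq₁, Scheme.Hom.comp_apply]; rfl
  have hpre₂ : i₂.opensRange.carrier.preimage J = (W₂ : Set U.toScheme) := by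
    ext z
    refine ⟨?_, fun hz => ⟨(r₂ ≫ L₂.j) ⟨z, hz⟩, ?_⟩⟩
    · rintro ⟨y, hy⟩
      rcases hcov z with hz | hz
      · have h2 : J z = i₁ ((r₁ ≫ L₁.j) ⟨z, hz⟩) := by
          rw [← Scheme.Hom.comp_apply, ← hsq₁, Scheme.Hom.comp_apply]; rfl
        obtain ⟨w, hw, -⟩ := hmeet _ _ (h2.symm.trans hy.symm)
        rw [Scheme.Hom.comp_apply] at hw
        have h3 := congrArg O₁.ι (L₁.j.isEmbedding.injective hw)
        rw [← Scheme.Hom.comp_apply, Scheme.homOfLE_ι, ← Scheme.Hom.comp_apply, hr₁, Scheme.Hom.comp_apply] at h3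
        show U.ι z ∈ O₂
        have h4 : U.ι z = W.ι w := h3.symm
        rw [h4]
        exact w.2.2
      · exact hz
    · rw [← Scheme.Hom.comp_apply, ← hsq₂, Scheme.Hom.comp_apply]; rfl
  have hp₁ : IsPullback (r₁ ≫ L₁.j) W₁.ι i₁ J :=
    IsOpenImmersion.isPullback _ _ _ _ hsq₁ (by rw [Scheme.Opens.opensRange_ι]; exact Opens.ext hpre₁)
  have hp₂ : IsPullback (r₂ ≫ L₂.j) W₂.ι i₂ J :=
    IsOpenImmersion.isPullback _ _ _ _ hsq₂ (by rw [Scheme.Opens.opensRange_ι]; exact Opens.ext hpre₂)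
  haveI : IsIso r₁ := by
    refine (isIso_iff_isOpenImmersion_and_surjective r₁).mpr ⟨inferInstance, ⟨fun x => ?_⟩⟩
    exact ⟨⟨⟨x.1, Or.inl x.2⟩, x.2⟩, Subtype.ext (by simpa using congr($(hr₁) ⟨⟨x.1, Or.inl x.2⟩, x.2⟩))⟩
  haveI : IsIso r₂ := by
    refine (isIso_iff_isOpenImmersion_and_surjective r₂).mpr ⟨inferInstance, ⟨fun x => ?_⟩⟩
    exact ⟨⟨⟨x.1, Or.inr x.2⟩, x.2⟩, Subtype.ext (by simpa using congr($(hr₂) ⟨⟨x.1, Or.inr x.2⟩, x.2⟩))⟩
  have hjointly : ∀ y : P, ∃ (k : WalkingSpan) (y' : (span V₁.ι b).obj k), colimit.ι (span V₁.ι b) k y' = y :=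
    fun y => ⟨_, (Scheme.IsLocallyDirected.openCover (span V₁.ι b)).covers y⟩
  let 𝒰 : P.OpenCover := Scheme.openCoverOfIsOpenCover P
    (fun c : ULift.{u} Bool => cond c.down i₁.opensRange i₂.opensRange) (by
      refine top_le_iff.1 fun y _ => Opens.mem_iSup.2 ?_
      obtain ⟨k, y', rfl⟩ := hjointly y
      obtain (_ | (_ | _)) := k
      · refine ⟨⟨true⟩, V₁.ι y', ?_⟩
        exact (congr($(colimit.w (span V₁.ι b) WalkingSpan.Hom.fst) y'))
      · exact ⟨⟨true⟩, y', rfl⟩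
      · exact ⟨⟨false⟩, y', rfl⟩)
  have hflat : Flat F := by
    refine IsZariskiLocalAtSource.of_openCover (P := @Flat) 𝒰 fun c => ?_
    obtain ⟨_ | _⟩ := c
    · show Flat (i₂.opensRange.ι ≫ F)
      rw [← i₂.isoOpensRange_inv_comp, Category.assoc, hF₂]
      infer_instance
    · show Flat (i₁.opensRange.ι ≫ F)
      rw [← i₁.isoOpensRange_inv_comp, Category.assoc, hF₁]
      infer_instance
  refine ⟨⟨P, F, hflat, J, ?_⟩⟩
  refine Scheme.isPullback_of_openCover J (U.ι ≫ g) F _ 𝒰 fun c => ?_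
  have key : ∀ (i : P.Opens) {T : Scheme.{u}} (e : T ⟶ P) [IsOpenImmersion e] (Wi : U.toScheme.Opens) {O' : Y.Opens}
      (r : Wi.toScheme ⟶ O'.toScheme) [IsIso r] (j : O'.toScheme ⟶ T) (fT : T ⟶ Spec (CommRingCat.of B)),
      e.opensRange = i → IsPullback (r ≫ j) Wi.ι e J → r ≫ O'.ι = Wi.ι ≫ U.ι → e ≫ F = fT →
      IsPullback j (O'.ι ≫ g) fT (Spec.map (CommRingCat.ofHom π)) →
      IsPullback (pullback.snd J i.ι) (pullback.fst J i.ι ≫ U.ι ≫ g) (i.ι ≫ F) (Spec.map (CommRingCat.ofHom π)) := by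
    intro i T e _ Wi O' r _ j fT hi hp hr hFe hj
    subst hi
    have hp' : IsPullback (r ≫ j ≫ e.isoOpensRange.hom) Wi.ι e.opensRange.ι J :=
      hp.of_iso (Iso.refl _) e.isoOpensRange (Iso.refl _) (Iso.refl _) (by simp) (by simp)
        (by simp) (by simp)
    have hT : IsPullback (r ≫ j ≫ e.isoOpensRange.hom) (Wi.ι ≫ U.ι ≫ g) (e.opensRange.ι ≫ F)
        (Spec.map (CommRingCat.ofHom π)) :=
      hj.of_iso (asIso r).symm e.isoOpensRange (Iso.refl _) (Iso.refl _) (by simp)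
        (by simp [← reassoc_of% hr]) (by simp [← hFe]) (by simp)
    refine hT.of_iso hp'.flip.isoPullback (Iso.refl _) (Iso.refl _) (Iso.refl _) ?_ ?_ (by simp) (by simp)
    · simp [IsPullback.isoPullback_hom_snd]
    · simp [← Category.assoc, IsPullback.isoPullback_hom_fst]
  obtain ⟨_ | _⟩ := c
  · exact key i₂.opensRange i₂ W₂ r₂ L₂.j L₂.f rfl hp₂ hr₂ hF₂ L₂.isPullback
  · exact key i₁.opensRange i₁ W₁ r₁ L₁.j L₁.f rfl hp₁ hr₁ hF₁ L₁.isPullback

end Groth.Agent.LciCurve
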