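import Groth.Agent.LciCurve.Affine
import Groth.Agent.LciCurve.Cover
import Mathlib

/-!
# Generically smooth local complete intersection curves are unobstructed
-/

set_option autoImplicit false
set_option linter.style.haveILetI false
set_option backward.isDefEq.respectTransparency false
set_option backward.isDefEq.respectTransparency.types false
universe u

open CategoryTheory CategoryTheory.Limits AlgebraicGeometry TopologicalSpace ArtFun ArtFun.Art IsLocalRing

noncomputable section

namespace Groth.Agent.LciCurve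

variable {k : Type u} [Field k] {X : Scheme.{u}} {x : X ⟶ specPt k} {A B : Art k k}

/-- The pieces of a deformation over smooth opens are smooth over the base. -/
theorem smooth_opn (ξ : DefSch X x A) (U : X.Opens) [Smooth (U.ι ≫ x)] : Smooth ((DefLift.opn ξ U).ι ≫ ξ.f) := by
  haveI := DefLift.isClosedImmersion_i ξ
  haveI : Flat ξ.f := ξ.flat
  haveI : IsClosedImmersion (specRes A) := IsClosedImmersion.spec_of_surjective _ A.res_surjective
  let O := DefLift.opn ξ U
  have hO : ξ.i ⁻¹ᵁ O = U := DefLift.preimage_opn ξ U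
  haveI : Smooth ((ξ.i ⁻¹ᵁ O).ι ≫ x) := by rw [hO]; infer_instance
  have h : IsPullback (ξ.i ∣_ O) ((ξ.i ⁻¹ᵁ O).ι ≫ x) (O.ι ≫ ξ.f) (specRes A) :=
    (isPullback_morphismRestrict ξ.i O).paste_vert ξ.isPullback
  haveI : Flat ((O.ι ≫ ξ.f) ≫ 𝟙 _) := by rw [Category.comp_id]; infer_instance
  have hn : IsNilpotent (RingHom.ker A.res.toRingHom) := by
    rw [show RingHom.ker A.res.toRingHom = maximalIdeal A.carrier from
      (Ideal.ext fun a => (A.mem_maximalIdeal_iff a).symm)]
    exact FlatLift.exists_pow_eq_bot A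
  exact ThickProp.smooth_of_deform (iX := ξ.i ∣_ O) (iY := specRes A) (iS := specRes A)
    (f := (ξ.i ⁻¹ᵁ O).ι ≫ x) (f' := O.ι ≫ ξ.f) (g := 𝟙 _) (g' := 𝟙 _)
    (by rw [Category.comp_id, Category.comp_id]; exact h) (IsPullback.id_vert _) h.w
    (DefLift.isNilpotent_ker_specMap _ A.res_surjective hn)

/-- Deformations of a generically smooth local complete intersection curve lift along surjections. -/
theorem isSmoothFunctor [LocallyOfFiniteType x] [QuasiCompact x] (hdim : topologicalKrullDim X ≤ 1)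
    (hlci : ∀ p : X, Synt.IsSyntomicAt x p) (hsm : ∃ U : X.Opens, Dense (U : Set X) ∧ Smooth (U.ι ≫ x)) :
    IsSmoothFunctor (defFunctor (Λ := k) X x) := by
  classical
  haveI : IsLocallyNoetherian X := LocallyOfFiniteType.isLocallyNoetherian x
  haveI : CompactSpace X := QuasiCompact.compactSpace_of_compactSpace x
  haveI : IsNoetherian X := {}
  obtain ⟨U, hU, hUs⟩ := hsm
  obtain ⟨U₀, n, W, hU₀, hU₀U, hW, hWU, hWW, hcov⟩ := exists_cover hdim U hU
  intro B A μ hμ c
  induction c using Quotient.inductionOn with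
  | h ξ =>
  let π := μ.toAlgHom.toRingHom
  have hn : IsNilpotent (RingHom.ker π) := by
    obtain ⟨m, hm⟩ := FlatLift.exists_pow_eq_bot B
    exact ⟨m, le_bot_iff.1 ((Ideal.pow_right_mono (IsLocalRing.le_maximalIdeal (RingHom.ker_ne_top _)) m).trans hm.le)⟩
  have key : ∀ s : Finset (Fin n), Nonempty (Lift π ξ.f (DefLift.opn ξ (U₀ ⊔ s.sup W))) := by
    intro s
    induction s using Finset.induction_on with
    | empty => rw [Finset.sup_empty, sup_bot_eq]; exact exists_lift_affine ξ μ hμ hlci hU₀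
    | @insert i s hi ih =>
      obtain ⟨L₁⟩ := ih
      obtain ⟨L₂⟩ := exists_lift_affine ξ μ hμ hlci (hW i)
      have hinf : (U₀ ⊔ s.sup W) ⊓ W i = W i ⊓ U₀ := by
        refine le_antisymm ?_ (le_inf (inf_le_right.trans le_sup_left) inf_le_left)
        rw [inf_sup_right]
        refine sup_le (le_inf inf_le_right inf_le_left) (le_inf inf_le_right ?_)
        rw [Finset.sup_inf_distrib_right]
        exact Finset.sup_le fun j hj => hWW j i fun e => hi (e ▸ hj)
      haveI := DefLift.surjective_i ξ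
      have hopn : DefLift.opn ξ (U₀ ⊔ s.sup W) ⊓ DefLift.opn ξ (W i) = DefLift.opn ξ (W i ⊓ U₀) := by
        rw [← DefLift.opn_preimage ξ (DefLift.opn ξ (U₀ ⊔ s.sup W) ⊓ DefLift.opn ξ (W i)),
          Scheme.Hom.preimage_inf, DefLift.preimage_opn, DefLift.preimage_opn, hinf]
      haveI : Smooth ((W i ⊓ U₀).ι ≫ x) := by
        rw [← Scheme.homOfLE_ι X (inf_le_right.trans hU₀U : W i ⊓ U₀ ≤ U), Category.assoc]
        infer_instance
      haveI : Smooth ((DefLift.opn ξ (U₀ ⊔ s.sup W) ⊓ DefLift.opn ξ (W i)).ι ≫ ξ.f) := by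
        rw [hopn]; exact smooth_opn ξ _
      obtain ⟨L⟩ := exists_lift_sup hμ hn L₁ L₂ (by rw [hopn]; exact DefLift.isAffineOpen_opn ξ (hWU i))
      have hsup : DefLift.opn ξ (U₀ ⊔ s.sup W) ⊔ DefLift.opn ξ (W i) = DefLift.opn ξ (U₀ ⊔ (insert i s).sup W) := by
        rw [← DefLift.opn_preimage ξ (DefLift.opn ξ (U₀ ⊔ s.sup W) ⊔ DefLift.opn ξ (W i)),
          Scheme.Hom.preimage_sup, DefLift.preimage_opn, DefLift.preimage_opn, Finset.sup_insert,
          sup_assoc, sup_comm (s.sup W)]
      exact ⟨hsup ▸ L⟩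
  obtain ⟨L⟩ := key Finset.univ
  have htop : DefLift.opn ξ (U₀ ⊔ Finset.univ.sup W) = ⊤ := by
    rw [Finset.sup_univ_eq_iSup, hcov]
    exact DefLift.opn_preimage ξ ⊤
  obtain ⟨ξ', hξ'⟩ := exists_map_eq ξ μ (htop ▸ L)
  exact ⟨ξ'.cl, hξ'⟩

end Groth.Agent.LciCurve
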